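import Mathlib.LinearAlgebra.TensorProduct.RightExactness
import Mathlib.LinearAlgebra.TensorProduct.Quotient
import Mathlib.RingTheory.Flat.Basic
import Mathlib.RingTheory.TensorProduct.Basic
import Mathlib.RingTheory.TensorProduct.Maps

/-!
# The graded pieces of two flat deformations of the same closed subscheme
-/

set_option autoImplicit false

universe u

open TensorProduct

namespace Groth.Misc6.InfDescent

variable {A : Type u} [CommRing A] (I : Ideal A) (k : ℕ)

/-- The `k`-th graded piece of the `I`-adic filtration, inside `A / I^(k+1)`. -/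
abbrev gr : Submodule A (A ⧸ I ^ (k + 1)) :=
  Submodule.map (I ^ (k + 1)).mkQ (I ^ k)

theorem smul_gr_eq_zero {a : A} (ha : a ∈ I) (n : gr I k) : a • n = 0 := by
  obtain ⟨n, x, hx, rfl⟩ := n
  apply Subtype.ext
  show a • (I ^ (k + 1)).mkQ x = 0
  rw [← map_smul, Submodule.mkQ_apply, Submodule.Quotient.mk_eq_zero, smul_eq_mul, pow_succ']
  exact Ideal.mul_mem_mul ha hx

variable {P : Type u} [CommRing P] [Algebra A P]

/-- The comparison of the graded piece with the quotient. -/
noncomputable def eta (K : Ideal P) :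
    gr I k ⊗[A] P →ₗ[A] (P ⧸ K) ⧸ (I ^ (k + 1) • ⊤ : Submodule A (P ⧸ K)) :=
  (TensorProduct.quotTensorEquivQuotSMul (P ⧸ K) (I ^ (k + 1))).toLinearMap ∘ₗ
    ((gr I k).subtype.rTensor (P ⧸ K)) ∘ₗ (Ideal.Quotient.mkₐ A K).toLinearMap.lTensor (gr I k)

/-- The image of an element in the quotient. -/
noncomputable def cl (K : Ideal P) : P →ₗ[A] (P ⧸ K) ⧸ (I ^ (k + 1) • ⊤ : Submodule A (P ⧸ K)) :=
  (I ^ (k + 1) • ⊤ : Submodule A (P ⧸ K)).mkQ ∘ₗ (Ideal.Quotient.mkₐ A K).toLinearMap

theorem eta_tmul (K : Ideal P) (x : A) (hx : x ∈ I ^ k) (p : P) :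
    eta I k K ((⟨_, x, hx, rfl⟩ : gr I k) ⊗ₜ p) = cl I k K (x • p) := by
  simp [eta, cl]

/-- Elements of a submodule are tensors with the graded piece. -/
noncomputable def kr (K : Submodule A P) : Submodule A (gr I k ⊗[A] P) :=
  LinearMap.range (K.subtype.lTensor (gr I k))

theorem kr_le {K K' : Submodule A P} (h : K ≤ K' ⊔ I • ⊤) : kr I k K ≤ kr I k K' := by
  rintro _ ⟨z, rfl⟩
  induction z using TensorProduct.induction_on with
  | zero => simp
  | add a b ha hb => rw [map_add]; exact add_mem ha hb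
  | tmul n x =>
    obtain ⟨y, hy, w, hw, hyw⟩ := Submodule.mem_sup.1 (h x.2)
    rw [LinearMap.lTensor_tmul, Submodule.subtype_apply, ← hyw, tmul_add]
    refine add_mem ⟨n ⊗ₜ ⟨y, hy⟩, by simp⟩ ?_
    have h0 : n ⊗ₜ[A] w = 0 := by
      refine Submodule.smul_induction_on hw (fun a ha m _ => ?_) fun a b ha hb => ?_
      · rw [← smul_tmul, smul_gr_eq_zero I k ha, zero_tmul]
      · rw [tmul_add, ha, hb, add_zero]
    rw [h0]
    exact zero_mem _

theorem kr_eq_ker_lTensor (K : Ideal P) :
    LinearMap.ker ((Ideal.Quotient.mkₐ A K).toLinearMap.lTensor (gr I k)) =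
      kr I k (K.restrictScalars A) := by
  refine LinearMap.exact_iff.1 (lTensor_exact (gr I k) ?_ Ideal.Quotient.mk_surjective)
  intro x
  show Ideal.Quotient.mk K x = 0 ↔ x ∈ Set.range _
  rw [Ideal.Quotient.eq_zero_iff_mem]
  exact ⟨fun h => ⟨⟨x, h⟩, rfl⟩, fun ⟨y, hy⟩ => hy ▸ y.2⟩

/-- For a flat quotient the comparison is injective up to the ideal. -/
theorem ker_eta (K : Ideal P) [Module.Flat A (P ⧸ K)] :
    LinearMap.ker (eta I k K) = kr I k (K.restrictScalars A) := by
  rw [← kr_eq_ker_lTensor]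
  ext z
  have hinj : Function.Injective ((gr I k).subtype.rTensor (P ⧸ K)) :=
    Module.Flat.rTensor_preserves_injective_linearMap _ (gr I k).injective_subtype
  simp only [eta, LinearMap.mem_ker, LinearMap.comp_apply, LinearEquiv.coe_coe,
    LinearEquiv.map_eq_zero_iff]
  exact map_eq_zero_iff _ hinj

/-- Elements of `K + I^k` come from the graded piece. -/
theorem exists_eta (K : Ideal P) {p : P} (hp : p ∈ K.restrictScalars A ⊔ I ^ k • (⊤ : Submodule A P)) :
    ∃ z, eta I k K z = cl I k K p := by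
  obtain ⟨y, hy, w, hw, rfl⟩ := Submodule.mem_sup.1 hp
  have hy0 : cl I k K y = 0 := by
    have : Ideal.Quotient.mk K y = 0 := Ideal.Quotient.eq_zero_iff_mem.2 hy
    simp [cl, this]
  rw [map_add, hy0, zero_add]
  refine Submodule.smul_induction_on hw (fun a ha m _ => ?_) fun a b ⟨za, ha⟩ ⟨zb, hb⟩ => ?_
  · exact ⟨_, eta_tmul I k K a ha m⟩
  · exact ⟨za + zb, by rw [map_add, map_add, ha, hb]⟩

theorem mem_of_cl_eq_zero (K : Ideal P) {p : P} (hp : cl I k K p = 0) :
    p ∈ K.restrictScalars A ⊔ I ^ (k + 1) • (⊤ : Submodule A P) := by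
  have h1 : (Ideal.Quotient.mkₐ A K).toLinearMap p ∈
      (I ^ (k + 1) • (⊤ : Submodule A P)).map (Ideal.Quotient.mkₐ A K).toLinearMap := by
    rw [Submodule.map_smul'', Submodule.map_top, LinearMap.range_eq_top.2 Ideal.Quotient.mk_surjective]
    exact (Submodule.Quotient.mk_eq_zero _).1 hp
  obtain ⟨w, hw, hwp⟩ := h1
  refine Submodule.mem_sup.2 ⟨p - w, ?_, w, hw, sub_add_cancel p w⟩
  exact Ideal.Quotient.eq.1 hwp.symm

/-- An ideal with flat quotient, contained in another one modulo a nilpotent ideal and containing it, is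
equal to it. -/
theorem le_of_le_sup (K J : Ideal P) [Module.Flat A (P ⧸ K)] (hI : IsNilpotent I)
    (h : K ≤ J ⊔ I.map (algebraMap A P)) (hJK : J ≤ K) : K ≤ J := by
  let IP := I.map (algebraMap A P)
  have hinf : K ⊓ IP ≤ IP * K := by
    intro x hx
    have hx' : x ∈ I • (⊤ : Submodule A P) := by
      rw [Ideal.smul_top_eq_map]; exact hx.2
    have hex := Module.Flat.lTensor_preserves_injective_linearMap (M := P ⧸ K) I.subtype
      I.injective_subtype
    obtain ⟨z, hz⟩ : x ∈ LinearMap.range (TensorProduct.lift ((LinearMap.lsmul A P).comp I.subtype)) := by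
      refine Submodule.smul_induction_on hx' (fun a ha m _ => ⟨(⟨a, ha⟩ : I) ⊗ₜ m, rfl⟩) fun a b ha hb => add_mem ha hb
    have h1 : (Ideal.Quotient.mkₐ A K).toLinearMap.lTensor I z = 0 := by
      apply Module.Flat.rTensor_preserves_injective_linearMap (M := P ⧸ K) I.subtype I.injective_subtype
      apply (TensorProduct.lid A (P ⧸ K)).injective
      rw [map_zero, map_zero]
      have : ∀ z : I ⊗[A] P, TensorProduct.lid A (P ⧸ K) (I.subtype.rTensor (P ⧸ K)
          ((Ideal.Quotient.mkₐ A K).toLinearMap.lTensor I z)) =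
          Ideal.Quotient.mkₐ A K (TensorProduct.lift ((LinearMap.lsmul A P).comp I.subtype) z) := by
        intro z
        induction z using TensorProduct.induction_on with
        | zero => simp
        | add a b ha hb => simp only [map_add, ha, hb]
        | tmul a b => simp
      rw [this, hz]
      exact Ideal.Quotient.eq_zero_iff_mem.2 hx.1
    have hex2 := lTensor_exact (I : Submodule A A) (f := (K.restrictScalars A).subtype)
      (g := (Ideal.Quotient.mkₐ A K).toLinearMap) (fun x => by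
        show Ideal.Quotient.mk K x = 0 ↔ x ∈ Set.range _
        rw [Ideal.Quotient.eq_zero_iff_mem]
        exact ⟨fun h => ⟨⟨x, h⟩, rfl⟩, fun ⟨y, hy⟩ => hy ▸ y.2⟩) Ideal.Quotient.mk_surjective
    obtain ⟨w, hw⟩ := (hex2 z).1 h1
    rw [← hz, ← hw]
    clear hw
    induction w using TensorProduct.induction_on with
    | zero => simp
    | add a b ha hb => rw [map_add, map_add]; exact add_mem ha hb
    | tmul a b =>
      show (a : A) • (b : P) ∈ IP * K
      rw [Algebra.smul_def]
      exact Ideal.mul_mem_mul (Ideal.mem_map_of_mem _ a.2) b.2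
  have hstep : K ≤ J ⊔ IP * K := fun x hx => by
    obtain ⟨y, hy, w, hw, rfl⟩ := Submodule.mem_sup.1 (h hx)
    exact add_mem (Ideal.mem_sup_left hy)
      (Ideal.mem_sup_right (hinf ⟨(add_mem_cancel_left (hJK hy)).1 hx, hw⟩))
  have hpow : ∀ n : ℕ, K ≤ J ⊔ IP ^ n * K := by
    intro n
    induction n with
    | zero => simp
    | succ n ih =>
      refine ih.trans (sup_le le_sup_left ?_)
      calc IP ^ n * K ≤ IP ^ n * (J ⊔ IP * K) := Ideal.mul_mono le_rfl hstep
        _ ≤ J ⊔ IP ^ (n + 1) * K := by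
          rw [Ideal.mul_sup, pow_succ, mul_assoc]
          exact sup_le_sup_right Ideal.mul_le_right _
  obtain ⟨n, hn⟩ := hI
  refine (hpow n).trans (sup_le le_rfl ?_)
  rw [← Ideal.map_pow, hn]
  simp

section Base

variable {A : Type u} [CommRing A] {R C : Type u} [CommRing R] [Algebra A R] [CommRing C] [Algebra A C]
  (I : Ideal A) (k : ℕ) (J : Ideal R)

/-- The comparison with the constant deformation. -/
noncomputable def theta : gr I k ⊗[A] (R ⊗[A] C) →ₗ[A] (gr I k ⊗[A] (R ⧸ J)) ⊗[A] C :=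
  (TensorProduct.assoc A (gr I k) (R ⧸ J) C).symm.toLinearMap ∘ₗ
    ((Ideal.Quotient.mkₐ A J).toLinearMap.rTensor C).lTensor (gr I k)

/-- The extension of the ideal. -/
abbrev ext (C : Type u) [CommRing C] [Algebra A C] : Ideal (R ⊗[A] C) :=
  J.map (Algebra.TensorProduct.includeLeftRingHom : R →+* R ⊗[A] C)

theorem ker_theta :
    LinearMap.ker (theta (C := C) I k J) = kr I k ((ext J C).restrictScalars A) := by
  have hs : Function.Surjective ((Ideal.Quotient.mkₐ A J).toLinearMap.rTensor C) :=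
    LinearMap.rTensor_surjective C Ideal.Quotient.mk_surjective
  have hker : (ext J C).restrictScalars A =
      LinearMap.ker ((Ideal.Quotient.mkₐ A J).toLinearMap.rTensor C) := by
    ext x
    have h := Algebra.TensorProduct.rTensor_ker (R := A) (A := R) (C := C) (Ideal.Quotient.mkₐ A J) Ideal.Quotient.mk_surjective
    have hx : x ∈ LinearMap.ker ((Ideal.Quotient.mkₐ A J).toLinearMap.rTensor C) ↔
        x ∈ RingHom.ker (Algebra.TensorProduct.map (Ideal.Quotient.mkₐ A J) (AlgHom.id A C)) := Iff.rfl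
    rw [hx, h, show RingHom.ker (Ideal.Quotient.mkₐ A J) = J from Ideal.Quotient.mkₐ_ker A J]
    rfl
  rw [theta, LinearEquiv.ker_comp, hker]
  refine LinearMap.exact_iff.1 (lTensor_exact (gr I k) ?_ hs)
  intro x
  exact ⟨fun h => ⟨⟨x, h⟩, rfl⟩, fun ⟨y, hy⟩ => hy ▸ y.2⟩

variable {C' : Type u} [CommRing C'] [Algebra A C'] (ψ : C →ₐ[A] C')

/-- The map on coordinate rings. -/
noncomputable abbrev res : R ⊗[A] C →ₐ[A] R ⊗[A] C' := Algebra.TensorProduct.map (AlgHom.id A R) ψ

theorem theta_res (z : gr I k ⊗[A] (R ⊗[A] C)) :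
    theta I k J ((res ψ).toLinearMap.lTensor (gr I k) z) =
      ψ.toLinearMap.lTensor (gr I k ⊗[A] (R ⧸ J)) (theta I k J z) := by
  induction z using TensorProduct.induction_on with
  | zero => simp
  | add a b ha hb => simp only [map_add, ha, hb]
  | tmul n p =>
    induction p using TensorProduct.induction_on with
    | zero => simp
    | add a b ha hb => simp only [tmul_add, map_add, ha, hb]
    | tmul r c => simp [theta]

/-- The comparison is natural. -/
theorem eta_res (K : Ideal (R ⊗[A] C)) (K' : Ideal (R ⊗[A] C')) (hK : K.map (res (R := R) ψ) ≤ K')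
    {z : gr I k ⊗[A] (R ⊗[A] C)} {p : R ⊗[A] C} (h : eta I k K z = cl I k K p) :
    eta I k K' ((res ψ).toLinearMap.lTensor (gr I k) z) = cl I k K' (res ψ p) := by
  let μ : (R ⊗[A] C) ⧸ K →ₗ[A] (R ⊗[A] C') ⧸ K' :=
    (Ideal.quotientMapₐ K' (res ψ) (Ideal.map_le_iff_le_comap.1 hK)).toLinearMap
  let μ' := Submodule.mapQ (I ^ (k + 1) • ⊤ : Submodule A _) (I ^ (k + 1) • ⊤ : Submodule A _) μ
    (Submodule.smul_top_le_comap_smul_top _ μ)
  have hcl : ∀ q, μ' (cl I k K q) = cl I k K' (res ψ q) := fun q => rfl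
  have heta : ∀ w, μ' (eta I k K w) = eta I k K' ((res ψ).toLinearMap.lTensor (gr I k) w) := by
    intro w
    induction w using TensorProduct.induction_on with
    | zero => simp
    | add a b ha hb => simp only [map_add, ha, hb]
    | tmul n q =>
      obtain ⟨_, x, hx, rfl⟩ := n
      rw [LinearMap.lTensor_tmul, eta_tmul I k K x hx q, eta_tmul I k K' x hx _, hcl, map_smul]
      rfl
  rw [← heta, h, hcl]

end Base

end Groth.Misc6.InfDescent
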