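import Groth.Agent.Misc6.InfDescent.Local
import Groth.Agent.SpecFerrand.PinchBlowMain
import Groth.Agent.BlowUpBasics.SheafOf
import Groth.Agent.Divisors.IdealComap
import Mathlib.AlgebraicGeometry.Morphisms.FinitePresentation

/-!
# Deformations of a constant closed subscheme over a proper parameter space, scheme form
-/

set_option autoImplicit false

universe u

open CategoryTheory CategoryTheory.Limits AlgebraicGeometry TensorProduct
open Groth.BlowUpBasics

namespace Groth.Misc6.InfDescent

variable {X S : Scheme.{u}}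

/-- Ideal sheaves which agree on an open cover agree. -/
theorem eq_of_comap_cover {I I' : X.IdealSheafData}
    (h : ∀ x : X, ∃ (U : Scheme.{u}) (f : U ⟶ X) (_ : IsOpenImmersion f),
      x ∈ Set.range f ∧ I.comap f = I'.comap f) : I = I' := by
  refine Groth.Divisors.ext_of_cover fun x => ?_
  obtain ⟨U, f, hf, hx, he⟩ := h x
  obtain ⟨z, rfl⟩ := hx
  obtain ⟨V, hzV, -⟩ := Groth.Divisors.exists_affine_le z ⊤ trivial
  refine ⟨⟨f ''ᵁ V.1, V.2.image_of_isOpenImmersion f⟩, ⟨z, hzV, rfl⟩, ?_⟩
  have h1 := congrArg (fun J : U.IdealSheafData => J.ideal V) he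
  simp only [Scheme.IdealSheafData.ideal_comap_of_isOpenImmersion] at h1
  exact Ideal.comap_injective_of_surjective _ (ConcreteCategory.bijective_of_isIso (f.appIso V.1).inv).2 h1

/-- A closed subscheme which is flat and of finite presentation over an affine chart is cut out by a finitely
generated ideal with flat quotient. -/
theorem chart_props {A P : Type u} [CommRing A] [CommRing P] [Algebra A P]
    (W : Spec (CommRingCat.of A) ⟶ S) [IsOpenImmersion W]
    (u : Spec (CommRingCat.of P) ⟶ X) [IsOpenImmersion u] (s : X ⟶ S) [LocallyOfFiniteType s]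
    (hu : u ≫ s = Spec.map (CommRingCat.ofHom (algebraMap A P)) ≫ W) (I : X.IdealSheafData) {K : Ideal P}
    (hK : I.comap u = sheafOf K) [Flat (I.subschemeι ≫ s)] [LocallyOfFinitePresentation (I.subschemeι ≫ s)] :
    Module.Flat A (P ⧸ K) ∧ K.FG := by
  refine ⟨?_, ?_⟩
  · have h := Groth.SpecFerrand.Blow.flat_chart (R := CommRingCat.of P) (C := CommRingCat.of A) u W hu hK
      inferInstance
    exact RingHom.flat_algebraMap_iff.1 h
  · obtain ⟨v, hv⟩ := Groth.SpecFerrand.Blow.isPullback_quot (R := P) u I K hK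
    haveI : IsOpenImmersion v := MorphismProperty.of_isPullback hv inferInstance
    have hmono : ∀ {B : CommRingCat.{u}} (φ : CommRingCat.of A ⟶ B)
        (Q : MorphismProperty Scheme.{u}) [Q.IsStableUnderBaseChange], Q (Spec.map φ ≫ W) → Q (Spec.map φ) :=
      fun φ Q _ h => MorphismProperty.of_isPullback
        (IsPullback.of_horiz_isIso_mono ⟨by simp⟩ : IsPullback (𝟙 _) (Spec.map φ) (Spec.map φ ≫ W) W) h
    have h1 : (CommRingCat.ofHom (algebraMap A P)).hom.FiniteType := by
      refine (HasRingHomProperty.Spec_iff (P := @LocallyOfFiniteType)).1 (hmono _ @LocallyOfFiniteType ?_)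
      rw [← hu]
      infer_instance
    let φ := CommRingCat.ofHom (algebraMap A P) ≫ CommRingCat.ofHom (Ideal.Quotient.mk K)
    have h2 : φ.hom.FinitePresentation := by
      refine (HasRingHomProperty.Spec_iff (P := @LocallyOfFinitePresentation)).1
        (hmono _ @LocallyOfFinitePresentation ?_)
      rw [Spec.map_comp, Category.assoc, ← hu]
      show LocallyOfFinitePresentation (Groth.SpecFerrand.Sp (Ideal.Quotient.mk K) ≫ u ≫ s)
      rw [reassoc_of% hv.w]
      infer_instance
    have h3 : (Ideal.Quotient.mk K).FinitePresentation :=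
      RingHom.FinitePresentation.of_comp_finiteType (algebraMap A P) h2 h1
    letI := (Ideal.Quotient.mk K).toAlgebra
    haveI : Algebra.FinitePresentation P (P ⧸ K) := h3
    have := Algebra.FinitePresentation.ker_fG_of_surjective (Algebra.ofId P (P ⧸ K)) Ideal.Quotient.mk_surjective
    exact (show RingHom.ker (Algebra.ofId P (P ⧸ K)).toRingHom = K from Ideal.mk_ker) ▸ this

variable {A : Type u} [CommRing A] {R : Type u} [CommRing R] [Algebra A R]
  {T : Scheme.{u}} (p : T ⟶ Spec (CommRingCat.of A))

theorem chartE_snd {V : T.Opens} (hV : IsAffineOpen V) :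
    chartE p R hV ≫ pullback.snd p (Spec.map (CommRingCat.ofHom (algebraMap A R))) =
      Spec.map (CommRingCat.ofHom Algebra.TensorProduct.includeLeftRingHom) :=
  pullback.lift_snd ..

theorem chartE_base {V : T.Opens} (hV : IsAffineOpen V) :
    chartE p R hV ≫ pullback.fst p (Spec.map (CommRingCat.ofHom (algebraMap A R))) ≫ p =
      Spec.map (CommRingCat.ofHom (algebraMap A (R ⊗[A] Sec p V))) := by
  rw [pullback.condition, ← Category.assoc, chartE_snd, ← Spec.map_comp]
  rfl

/-- A flat deformation of a constant closed subscheme, constant modulo the nilradical and along a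
section, is constant. -/
theorem eq_comap_snd [IsProper p] [Flat p] [LocallyOfFinitePresentation p]
    [GeometricallyReduced p] [GeometricallyConnected p]
    [LocallyOfFiniteType (Spec.map (CommRingCat.ofHom (algebraMap A R)))]
    (J : Ideal R) [Module.Flat A (R ⧸ J)] (hJ : J.FG)
    (W₁ : (bcE p R).IdealSheafData) [Flat (W₁.subschemeι ≫ pullback.fst p _)]
    [LocallyOfFinitePresentation (W₁.subschemeι ≫ pullback.fst p _)]
    (hnil : ∀ {Z : Scheme.{u}} (z : Z ⟶ bcE p R)
      (w : Z ⟶ Spec (CommRingCat.of (A ⧸ nilradical A))),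
      z ≫ pullback.fst p _ ≫ p = w ≫ Spec.map (CommRingCat.ofHom (Ideal.Quotient.mk (nilradical A))) →
      W₁.comap z = ((sheafOf J).comap (pullback.snd p _)).comap z)
    (σ : Spec (CommRingCat.of A) ⟶ T) (hσ : σ ≫ p = 𝟙 _) (V₀ : T.Opens) (hV₀ : IsAffineOpen V₀)
    (hσV : Set.range σ ⊆ (V₀ : Set T))
    (hσW : ∀ z : Spec (CommRingCat.of R) ⟶ bcE p R,
      z ≫ pullback.fst p _ = Spec.map (CommRingCat.ofHom (algebraMap A R)) ≫ σ →
      z ≫ pullback.snd p _ = 𝟙 _ → W₁.comap z = sheafOf J) :
    W₁ = (sheafOf J).comap (pullback.snd p _) := by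
  classical
  let K : ∀ V : T.Opens, Ideal (R ⊗[A] Sec p V) := fun V =>
    if h : IsAffineOpen V then (sheafOf_surjective (W₁.comap (chartE p R h))).choose else ⊤
  have hK : ∀ (V : T.Opens) (h : IsAffineOpen V), W₁.comap (chartE p R h) = sheafOf (K V) := by
    intro V h
    simp only [K, dif_pos h]
    exact (sheafOf_surjective (W₁.comap (chartE p R h))).choose_spec.symm
  haveI : LocallyOfFiniteType (pullback.fst p (Spec.map (CommRingCat.ofHom (algebraMap A R)))) :=
    MorphismProperty.pullback_fst _ _ inferInstance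
  have hprops : ∀ (V : T.Opens) (_ : IsAffineOpen V),
      Module.Flat A ((R ⊗[A] Sec p V) ⧸ K V) ∧ (K V).FG := by
    intro V hV
    haveI := isOpenImmersion_chartE p R hV
    let s := pullback.fst p (Spec.map (CommRingCat.ofHom (algebraMap A R))) ≫ p
    haveI : Flat (W₁.subschemeι ≫ s) := by rw [← Category.assoc]; infer_instance
    haveI : LocallyOfFinitePresentation (W₁.subschemeι ≫ s) := by rw [← Category.assoc]; infer_instance
    exact chart_props (𝟙 _) (chartE p R hV) s (by rw [Category.comp_id, chartE_base]) W₁ (hK V hV)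
  obtain ⟨φ', hφ'⟩ := Spec.map_surjective (IsOpenImmersion.lift (secSpec p hV₀) σ
    (by rwa [range_secSpec]))
  have hφσ : Spec.map φ' ≫ secSpec p hV₀ = σ := by rw [hφ', IsOpenImmersion.lift_fac]
  let φ : Sec p V₀ →ₐ[A] A :=
    { φ'.hom with
      commutes' := fun a => by
        have h : CommRingCat.ofHom (algebraMap A (Sec p V₀)) ≫ φ' = 𝟙 _ := by
          apply Spec.map_injective
          rw [Spec.map_comp, ← fromSpec_p p hV₀, ← Category.assoc, hφσ, hσ, Spec.map_id]
        exact congr($h a) }
  have hres : ∀ (V V' : T.Opens) (_ : IsAffineOpen V) (_ : IsAffineOpen V') (h : V' ≤ V),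
      (K V).map (res (R := R) (secRes p h)) = K V' := fun V V' hV hV' h => by
    apply sheafOf_injective
    rw [← hK V' hV', ← chartE_res p R hV hV' h, Scheme.IdealSheafData.comap_comp, hK V hV,
      comap_sheafOf_Spec]
    rfl
  have hmain : ∀ (V : T.Opens) (_ : IsAffineOpen V), K V = ext (A := A) J (Sec p V) := by
    refine fun V hV => eq_ext_of_constant_mod_nilradical J p hJ K hres (fun V h => (hprops V h).1)
      (fun V h => (hprops V h).2) (fun V h => ?_) V₀ hV₀ φ ?_ V hV
    · let N := (nilradical A).map (algebraMap A (R ⊗[A] Sec p V))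
      let w' : A ⧸ nilradical A →+* (R ⊗[A] Sec p V) ⧸ N :=
        Ideal.quotientMap N (algebraMap A (R ⊗[A] Sec p V)) Ideal.le_comap_map
      have h1 := hnil (Spec.map (CommRingCat.ofHom (Ideal.Quotient.mk N)) ≫ chartE p R h)
        (Spec.map (CommRingCat.ofHom w')) (by
          rw [Category.assoc, chartE_base, ← Spec.map_comp, ← Spec.map_comp]
          rfl)
      rw [Scheme.IdealSheafData.comap_comp, hK V h, comap_sheafOf_Spec, ← Scheme.IdealSheafData.comap_comp,
        Category.assoc, chartE_snd, ← Spec.map_comp, ← CommRingCat.ofHom_comp, comap_sheafOf_Spec] at h1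
      have h2 := congrArg (Ideal.comap (Ideal.Quotient.mk N)) (sheafOf_injective h1)
      rw [← Ideal.map_map, Ideal.comap_map_of_surjective _ Ideal.Quotient.mk_surjective,
        Ideal.comap_map_of_surjective _ Ideal.Quotient.mk_surjective,
        ← RingHom.ker_eq_comap_bot, Ideal.mk_ker] at h2
      exact h2
    · refine le_of_eq (sheafOf_injective ?_)
      show sheafOf ((K V₀).map (res (R := R) φ).toRingHom) = sheafOf (J.map _)
      rw [← comap_sheafOf_Spec, ← hK V₀ hV₀, ← comap_sheafOf_Spec, ← Scheme.IdealSheafData.comap_comp]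
      let r : R ⊗[A] A →+* R := (Algebra.TensorProduct.rid A R R).toRingEquiv.toRingHom
      let z : Spec (CommRingCat.of R) ⟶ bcE p R :=
        pullback.lift (Spec.map (CommRingCat.ofHom (algebraMap A R)) ≫ σ) (𝟙 _)
          (by rw [Category.assoc, hσ, Category.comp_id, Category.id_comp])
      rw [← hσW z (pullback.lift_fst ..) (pullback.lift_snd ..), ← Scheme.IdealSheafData.comap_comp]
      congr 1
      apply pullback.hom_ext
      · rw [Category.assoc, Category.assoc, pullback.lift_fst, chartE, pullback.lift_fst, ← hφσ,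
          ← Category.assoc, ← Spec.map_comp, ← Category.assoc, ← Category.assoc, ← Spec.map_comp,
          ← Spec.map_comp]
        congr 2
        ext c
        show res (R := R) φ (1 ⊗ₜ c) = algebraMap A R (φ c) ⊗ₜ 1
        rw [Algebra.TensorProduct.map_tmul, Algebra.algebraMap_eq_smul_one (A := R), TensorProduct.smul_tmul,
          smul_eq_mul, mul_one]
        rfl
      · rw [Category.assoc, Category.assoc, pullback.lift_snd, chartE_snd, Category.comp_id, ← Spec.map_comp]
        congr 1
        ext c
        show res (R := R) φ (c ⊗ₜ 1) = c ⊗ₜ 1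
        rw [Algebra.TensorProduct.map_tmul, map_one]
        rfl
  refine eq_of_comap_cover fun x => ?_
  obtain ⟨_, ⟨V, hV, rfl⟩, hxV, -⟩ :=
    T.isBasis_affineOpens.exists_subset_of_mem_open (Set.mem_univ (pullback.fst p _ x)) isOpen_univ
  refine ⟨_, chartE p R hV, isOpenImmersion_chartE p R hV, ?_, ?_⟩
  · rw [range_chartE]; exact hxV
  · rw [hK V hV, hmain V hV, ← Scheme.IdealSheafData.comap_comp, chartE_snd, comap_sheafOf_Spec]

end Groth.Misc6.InfDescent
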