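import Groth.Agent.GrpschAbsch.H0General
import Mathlib.Algebra.TrivSqZeroExt.Basic
import Mathlib.RingTheory.TensorProduct.Maps

/-!
# Compatible families with values in a module are constant on a proper scheme with constant functions
-/

set_option autoImplicit false

universe u

open CategoryTheory CategoryTheory.Limits AlgebraicGeometry TensorProduct

namespace Groth.Misc6.InfDescent

variable {A : Type u} [CommRing A] {T : Scheme.{u}}

/-- The sections over an open of a scheme over `A`, as an `A`-algebra. -/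
def Sec (_p : T ⟶ Spec (CommRingCat.of A)) (V : T.Opens) : Type u := Γ(T, V)

variable (p : T ⟶ Spec (CommRingCat.of A)) (V : T.Opens)

noncomputable instance : CommRing (Sec p V) := inferInstanceAs (CommRing Γ(T, V))

/-- The structure map of the sections over an open. -/
noncomputable def secMap : CommRingCat.of A ⟶ Γ(T, V) :=
  (Scheme.ΓSpecIso (CommRingCat.of A)).inv ≫ p.appLE ⊤ V (by simp)

noncomputable instance : Algebra A (Sec p V) := (secMap p V).hom.toAlgebra

variable {V} {V' : T.Opens}

/-- Restriction. -/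
noncomputable def secRes (h : V' ≤ V) : Sec p V →ₐ[A] Sec p V' :=
  { (T.presheaf.map (homOfLE h).op).hom with
    commutes' := fun a => by
      show (secMap p V ≫ T.presheaf.map (homOfLE h).op) a = secMap p V' a
      rw [secMap, secMap, Category.assoc, Scheme.Hom.appLE_map] }

/-- The inclusion of an affine open. -/
noncomputable def secSpec (hV : IsAffineOpen V) : Spec (CommRingCat.of (Sec p V)) ⟶ T := hV.fromSpec

instance (hV : IsAffineOpen V) : IsOpenImmersion (secSpec p hV) :=
  inferInstanceAs (IsOpenImmersion hV.fromSpec)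

theorem range_secSpec (hV : IsAffineOpen V) : Set.range (secSpec p hV) = V := hV.range_fromSpec

theorem fromSpec_p (hV : IsAffineOpen V) :
    secSpec p hV ≫ p = Spec.map (CommRingCat.ofHom (algebraMap A (Sec p V))) := by
  show hV.fromSpec ≫ p = Spec.map (secMap p V)
  rw [← (isAffineOpen_top (Spec (CommRingCat.of A))).SpecMap_appLE_fromSpec p hV (by simp),
    IsAffineOpen.fromSpec_top, Scheme.isoSpec_Spec_inv, secMap, Spec.map_comp]

theorem fromSpec_secRes (hV : IsAffineOpen V) (hV' : IsAffineOpen V') (h : V' ≤ V) :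
    Spec.map (CommRingCat.ofHom (secRes p h).toRingHom) ≫ secSpec p hV = secSpec p hV' :=
  hV.map_fromSpec hV' (homOfLE h).op

variable (E : Type u) [CommRing E] [Algebra A E]

/-- The base change to `E`. -/
noncomputable abbrev bcE : Scheme.{u} := pullback p (Spec.map (CommRingCat.ofHom (algebraMap A E)))

/-- The chart of the base change over an affine open. -/
noncomputable def chartE (hV : IsAffineOpen V) : Spec (CommRingCat.of (E ⊗[A] Sec p V)) ⟶ bcE p E :=
  pullback.lift
    (Spec.map (CommRingCat.ofHom (Algebra.TensorProduct.includeRight : Sec p V →ₐ[A] E ⊗[A] Sec p V).toRingHom) ≫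
      secSpec p hV)
    (Spec.map (CommRingCat.ofHom Algebra.TensorProduct.includeLeftRingHom))
    (by
      rw [Category.assoc, fromSpec_p p hV]
      exact ((isPullback_SpecMap_of_isPushout _ _ _ _ (CommRingCat.isPushout_tensorProduct A E (Sec p V))).flip.w))

theorem isPullback_chartE (hV : IsAffineOpen V) :
    IsPullback (chartE p E hV)
      (Spec.map (CommRingCat.ofHom (Algebra.TensorProduct.includeRight : Sec p V →ₐ[A] E ⊗[A] Sec p V).toRingHom))
      (pullback.fst p (Spec.map (CommRingCat.ofHom (algebraMap A E)))) (secSpec p hV) := by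
  refine IsPullback.of_right ?_ (pullback.lift_fst ..) (IsPullback.of_hasPullback _ _).flip
  rw [chartE, pullback.lift_snd, fromSpec_p p hV]
  exact isPullback_SpecMap_of_isPushout _ _ _ _ (CommRingCat.isPushout_tensorProduct A E (Sec p V))

theorem isOpenImmersion_chartE (hV : IsAffineOpen V) : IsOpenImmersion (chartE p E hV) :=
  MorphismProperty.of_isPullback (isPullback_chartE p E hV).flip inferInstance

theorem range_chartE (hV : IsAffineOpen V) :
    Set.range (chartE p E hV) =
      pullback.fst p (Spec.map (CommRingCat.ofHom (algebraMap A E))) ⁻¹' (V : Set T) := by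
  apply Set.Subset.antisymm
  · rintro _ ⟨z, rfl⟩
    rw [Set.mem_preimage, ← Scheme.Hom.comp_apply, (isPullback_chartE p E hV).w, Scheme.Hom.comp_apply,
      ← range_secSpec p hV]
    exact ⟨_, rfl⟩
  · intro z hz
    rw [Set.mem_preimage, ← range_secSpec p hV] at hz
    obtain ⟨w, hw⟩ := hz
    obtain ⟨q, hq, -⟩ := Scheme.exists_preimage_of_isPullback (isPullback_chartE p E hV) z w hw.symm
    exact ⟨q, hq⟩

theorem chartE_res (hV : IsAffineOpen V) (hV' : IsAffineOpen V') (h : V' ≤ V) :
    Spec.map (CommRingCat.ofHom (Algebra.TensorProduct.map (AlgHom.id A E) (secRes p h)).toRingHom) ≫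
      chartE p E hV = chartE p E hV' := by
  apply pullback.hom_ext
  · rw [chartE, chartE, Category.assoc, pullback.lift_fst, pullback.lift_fst, ← fromSpec_secRes p hV hV' h,
      ← Category.assoc, ← Spec.map_comp, ← Category.assoc, ← Spec.map_comp]
    congr 2
  · rw [chartE, chartE, Category.assoc, pullback.lift_snd, pullback.lift_snd, ← Spec.map_comp]
    congr 1
    ext x
    show Algebra.TensorProduct.map (AlgHom.id A E) (secRes p h) (x ⊗ₜ 1) = x ⊗ₜ 1
    rw [Algebra.TensorProduct.map_tmul, map_one]
    rfl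

open Groth.GrpschAbsch in
theorem SpecMap_lineHom {R S : CommRingCat.{u}} (φ : R ⟶ S) (x : R) :
    Spec.map φ ≫ H0General.lineHom ((Scheme.ΓSpecIso R).inv x) =
      H0General.lineHom ((Scheme.ΓSpecIso S).inv (φ x)) := by
  rw [H0General.comp_lineHom]
  congr 1
  exact congr($((Scheme.ΓSpecIso_inv_naturality φ).symm) x)

open Groth.GrpschAbsch in
/-- Compatible functions on the charts of the base change are constant. -/
theorem exists_const_ring [IsProper p] [Flat p] [LocallyOfFinitePresentation p] [GeometricallyReduced p]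
    [GeometricallyConnected p] {ι : Type u} (W : ι → T.Opens) (hW : ∀ i, IsAffineOpen (W i))
    (hcov : ∀ t : T, ∃ i, t ∈ W i) (x : ∀ i, E ⊗[A] Sec p (W i))
    (hx : ∀ i j, Algebra.TensorProduct.map (AlgHom.id A E)
        (secRes p (inf_le_left : W i ⊓ W j ≤ W i)) (x i) =
      Algebra.TensorProduct.map (AlgHom.id A E) (secRes p (inf_le_right : W i ⊓ W j ≤ W j)) (x j)) :
    ∃ e : E, ∀ i, x i = e ⊗ₜ 1 := by
  haveI : T.IsSeparated := Scheme.IsSeparated.mk (by
    have : IsSeparated (p ≫ terminal.from _) := inferInstance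
    rwa [terminal.comp_from p] at this)
  let 𝒰 : (bcE p E).OpenCover := Scheme.Cover.mkOfCovers ι (fun i => Spec (CommRingCat.of (E ⊗[A] Sec p (W i))))
    (fun i => chartE p E (hW i))
    (fun z => by
      obtain ⟨i, hi⟩ := hcov (pullback.fst p _ z)
      obtain ⟨w, hw⟩ : z ∈ Set.range (chartE p E (hW i)) := by
        rw [range_chartE]; exact hi
      exact ⟨i, w, hw⟩)
    (fun i => isOpenImmersion_chartE p E (hW i))
  let L := fun i => H0General.lineHom ((Scheme.ΓSpecIso (CommRingCat.of (E ⊗[A] Sec p (W i)))).inv (x i))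
  have hcompat : ∀ i j, pullback.fst (chartE p E (hW i)) (chartE p E (hW j)) ≫ L i =
      pullback.snd (chartE p E (hW i)) (chartE p E (hW j)) ≫ L j := by
    intro i j
    haveI := isOpenImmersion_chartE p E (hW i)
    haveI := isOpenImmersion_chartE p E (hW j)
    have hij : IsAffineOpen (W i ⊓ W j) := (hW i).inf (hW j)
    haveI := isOpenImmersion_chartE p E hij
    let Q := pullback (chartE p E (hW i)) (chartE p E (hW j))
    let w : Q ⟶ _ := IsOpenImmersion.lift (chartE p E hij)
      (pullback.fst (chartE p E (hW i)) (chartE p E (hW j)) ≫ chartE p E (hW i)) (by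
      rintro _ ⟨q, rfl⟩
      rw [range_chartE]
      refine ⟨?_, ?_⟩
      · have h := (range_chartE p E (hW i)).le ⟨pullback.fst (chartE p E (hW i)) (chartE p E (hW j)) q, rfl⟩
        exact h
      · have h := (range_chartE p E (hW j)).le ⟨pullback.snd (chartE p E (hW i)) (chartE p E (hW j)) q, rfl⟩
        rw [pullback.condition]
        exact h)
    have hw : w ≫ chartE p E hij = _ := IsOpenImmersion.lift_fac _ _ _
    have e1 : pullback.fst (chartE p E (hW i)) (chartE p E (hW j)) =
        w ≫ Spec.map (CommRingCat.ofHom (Algebra.TensorProduct.map (AlgHom.id A E)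
          (secRes p (inf_le_left : W i ⊓ W j ≤ W i))).toRingHom) := by
      rw [← cancel_mono (chartE p E (hW i)), Category.assoc, chartE_res p E (hW i) hij, hw]
    have e2 : pullback.snd (chartE p E (hW i)) (chartE p E (hW j)) =
        w ≫ Spec.map (CommRingCat.ofHom (Algebra.TensorProduct.map (AlgHom.id A E)
          (secRes p (inf_le_right : W i ⊓ W j ≤ W j))).toRingHom) := by
      rw [← cancel_mono (chartE p E (hW j)), Category.assoc, chartE_res p E (hW j) hij, hw, pullback.condition]
    rw [e1, e2, Category.assoc, Category.assoc, SpecMap_lineHom, SpecMap_lineHom]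
    exact congrArg (fun t => w ≫ H0General.lineHom ((Scheme.ΓSpecIso _).inv t)) (hx i j)
  let G := 𝒰.glueMorphisms L hcompat
  let p' := pullback.snd p (Spec.map (CommRingCat.ofHom (algebraMap A E)))
  haveI : IsProper p' := MorphismProperty.pullback_snd _ _ ‹_›
  haveI : LocallyOfFinitePresentation p' := MorphismProperty.pullback_snd _ _ ‹_›
  obtain ⟨a, ha⟩ : ∃ a, H0General.lineHom a = G := by
    refine ⟨(AffineSpace.toSpecMvPolyIntEquiv PUnit.{u + 1}) G PUnit.unit, ?_⟩
    rw [H0General.lineHom]
    exact (AffineSpace.toSpecMvPolyIntEquiv PUnit.{u + 1}).symm_apply_apply G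
  obtain ⟨b, hb⟩ := (H0General.appTop_bijective p').2 a
  refine ⟨(Scheme.ΓSpecIso (CommRingCat.of E)).hom b, fun i => ?_⟩
  have h1 : chartE p E (hW i) ≫ G = L i := 𝒰.ι_glueMorphisms L hcompat i
  rw [← ha, H0General.comp_lineHom, ← hb] at h1
  have h2 := H0General.lineHom_injective h1
  have h3 : (chartE p E (hW i) ≫ p').appTop b =
      (Scheme.ΓSpecIso (CommRingCat.of (E ⊗[A] Sec p (W i)))).inv (x i) := h2
  rw [show chartE p E (hW i) ≫ p' = Spec.map (CommRingCat.ofHom Algebra.TensorProduct.includeLeftRingHom)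
    from pullback.lift_snd ..] at h3
  apply (Scheme.ΓSpecIso (CommRingCat.of (E ⊗[A] Sec p (W i)))).commRingCatIsoToRingEquiv.symm.injective
  refine Eq.trans h3.symm ?_
  let φ : CommRingCat.of E ⟶ CommRingCat.of (E ⊗[A] Sec p (W i)) :=
    CommRingCat.ofHom Algebra.TensorProduct.includeLeftRingHom
  have hb : b = (Scheme.ΓSpecIso (CommRingCat.of E)).inv ((Scheme.ΓSpecIso (CommRingCat.of E)).hom b) :=
    ((Scheme.ΓSpecIso (CommRingCat.of E)).commRingCatIsoToRingEquiv.symm_apply_apply b).symm
  conv_lhs => rw [hb]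
  exact congr($((Scheme.ΓSpecIso_inv_naturality φ).symm) ((Scheme.ΓSpecIso (CommRingCat.of E)).hom b))

/-- Compatible elements of the base changes of a module are constant. -/
theorem exists_const [IsProper p] [Flat p] [LocallyOfFinitePresentation p] [GeometricallyReduced p]
    [GeometricallyConnected p] (M : Type u) [AddCommMonoid M] [Module A M]
    {ι : Type u} (W : ι → T.Opens) (hW : ∀ i, IsAffineOpen (W i))
    (hcov : ∀ t : T, ∃ i, t ∈ W i) (ξ : ∀ i, M ⊗[A] Sec p (W i))
    (hξ : ∀ i j, (secRes p (inf_le_left : W i ⊓ W j ≤ W i)).toLinearMap.lTensor M (ξ i) =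
      (secRes p (inf_le_right : W i ⊓ W j ≤ W j)).toLinearMap.lTensor M (ξ j)) :
    ∃ m : M, ∀ i, ξ i = m ⊗ₜ 1 := by
  letI : AddCommGroup M := Module.addCommMonoidToAddCommGroup A
  letI : Module Aᵐᵒᵖ M := Module.compHom M ((RingHom.id A).fromOpposite mul_comm)
  haveI : IsCentralScalar A M := ⟨fun _ _ => rfl⟩
  let E' := TrivSqZeroExt A M
  let inr : M →ₗ[A] E' := TrivSqZeroExt.inrHom A M
  let snd : E' →ₗ[A] M := TrivSqZeroExt.sndHom A M
  have key : ∀ (C C' : Type u) [CommRing C] [Algebra A C] [CommRing C'] [Algebra A C'] (ψ : C →ₐ[A] C') (z : M ⊗[A] C),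
      Algebra.TensorProduct.map (AlgHom.id A E') ψ (inr.rTensor C z) = inr.rTensor C' (ψ.toLinearMap.lTensor M z) := by
    intro C C' _ _ _ _ ψ z
    induction z using TensorProduct.induction_on with
    | zero => simp
    | add a b ha hb => simp only [map_add, ha, hb]
    | tmul m c => simp
  obtain ⟨e, he⟩ := exists_const_ring p E' W hW hcov (fun i => inr.rTensor _ (ξ i))
    (fun i j => by rw [key, key, hξ i j])
  refine ⟨snd e, fun i => ?_⟩
  have h := congrArg (snd.rTensor (Sec p (W i))) (he i)
  rw [← LinearMap.comp_apply, ← LinearMap.rTensor_comp, LinearMap.rTensor_tmul] at h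
  rw [← h, show snd ∘ₗ inr = LinearMap.id from LinearMap.ext fun m => TrivSqZeroExt.snd_inr A m,
    LinearMap.rTensor_id]
  rfl

end Groth.Misc6.InfDescent
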