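import Groth.Agent.Misc6.InfDescent.Alg
import Groth.Agent.Misc6.InfDescent.Constant
import Mathlib.RingTheory.Nilpotent.Lemmas

/-!
# A flat deformation of a constant closed subscheme over a proper parameter space is constant
-/

set_option autoImplicit false

universe u

open CategoryTheory CategoryTheory.Limits AlgebraicGeometry TensorProduct

namespace Groth.Misc6.InfDescent

variable {A : Type u} [CommRing A]

theorem exists_fg_le {P : Type u} [CommRing P] [Algebra A P] (K : Ideal P) (N : Ideal A) {x : P}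
    (hx : x ∈ K ⊔ N.map (algebraMap A P)) :
    ∃ I : Ideal A, I.FG ∧ I ≤ N ∧ x ∈ K ⊔ I.map (algebraMap A P) := by
  obtain ⟨y, hy, w, hw, rfl⟩ := Submodule.mem_sup.1 hx
  suffices ∃ I : Ideal A, I.FG ∧ I ≤ N ∧ w ∈ I.map (algebraMap A P) by
    obtain ⟨I, h1, h2, h3⟩ := this
    exact ⟨I, h1, h2, Submodule.add_mem_sup hy h3⟩
  have hw' : w ∈ N • (⊤ : Submodule A P) := by rw [Ideal.smul_top_eq_map]; exact hw
  refine Submodule.smul_induction_on hw' (fun a ha m _ => ?_) fun a b ⟨I, h1, h2, h3⟩ ⟨I', h1', h2', h3'⟩ => ?_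
  · refine ⟨Ideal.span {a}, Submodule.fg_span_singleton a, (Ideal.span_singleton_le_iff_mem _).2 ha, ?_⟩
    rw [Algebra.smul_def]
    exact Ideal.mul_mem_right _ _ (Ideal.mem_map_of_mem _ (Ideal.mem_span_singleton_self a))
  · exact ⟨I ⊔ I', Submodule.FG.sup h1 h1', sup_le h2 h2', add_mem (Ideal.map_mono le_sup_left h3) (Ideal.map_mono le_sup_right h3')⟩

theorem exists_fg_le_of_fg {P : Type u} [CommRing P] [Algebra A P] (K K' : Ideal P) (N : Ideal A)
    (hK' : K'.FG) (hle : K' ≤ K ⊔ N.map (algebraMap A P)) :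
    ∃ I : Ideal A, I.FG ∧ I ≤ N ∧ K' ≤ K ⊔ I.map (algebraMap A P) := by
  classical
  obtain ⟨s, rfl⟩ := hK'
  choose I h1 h2 h3 using fun x : s => exists_fg_le K N (hle (Submodule.subset_span x.2))
  refine ⟨⨆ x, I x, Submodule.fg_iSup _ h1, iSup_le h2, Submodule.span_le.2 fun x hx => ?_⟩
  exact (sup_le_sup_left (Ideal.map_mono (le_iSup I ⟨x, hx⟩)) K) (h3 ⟨x, hx⟩)

theorem restrictScalars_le_iff {P : Type u} [CommRing P] [Algebra A P] (I : Ideal A) (K K' : Ideal P) :
    K.restrictScalars A ≤ K'.restrictScalars A ⊔ I • (⊤ : Submodule A P) ↔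
      K ≤ K' ⊔ I.map (algebraMap A P) := by
  rw [Ideal.smul_top_eq_map, ← Submodule.restrictScalars_sup, Submodule.restrictScalars_le]

variable {R : Type u} [CommRing R] [Algebra A R] (J : Ideal R)

theorem tmul_one_mem_ext {r : R} (hr : r ∈ J) (C : Type u) [CommRing C] [Algebra A C] :
    r ⊗ₜ[A] (1 : C) ∈ ext (A := A) J C :=
  Ideal.mem_map_of_mem _ hr

theorem flat_quotient_ext [Module.Flat A (R ⧸ J)] (C : Type u) [CommRing C] [Algebra A C]
    [Module.Flat A C] : Module.Flat A ((R ⊗[A] C) ⧸ ext (A := A) J C) := by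
  have hs : Function.Surjective ((Ideal.Quotient.mkₐ A J).toLinearMap.rTensor C) :=
    LinearMap.rTensor_surjective C Ideal.Quotient.mk_surjective
  have hker : LinearMap.ker ((Ideal.Quotient.mkₐ A J).toLinearMap.rTensor C) = (ext (A := A) J C).restrictScalars A := by
    have h := Algebra.TensorProduct.rTensor_ker (R := A) (A := R) (C := C) (Ideal.Quotient.mkₐ A J)
      Ideal.Quotient.mk_surjective
    rw [show RingHom.ker (Ideal.Quotient.mkₐ A J) = J from Ideal.Quotient.mkₐ_ker A J] at h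
    ext x
    exact SetLike.ext_iff.1 h x
  let e := ((Submodule.quotEquivOfEq _ _ hker).symm.trans
    (((Ideal.Quotient.mkₐ A J).toLinearMap.rTensor C).quotKerEquivOfSurjective hs))
  exact Module.Flat.of_linearEquiv ((Submodule.Quotient.restrictScalarsEquiv A (ext (A := A) J C)).symm.trans e)

section Compare

variable {C : Type u} [CommRing C] [Algebra A C] (I : Ideal A) (k : ℕ) (K : Ideal (R ⊗[A] C))
  [Module.Flat A ((R ⊗[A] C) ⧸ K)]
  (hkr : kr I k (K.restrictScalars A) = kr I k ((ext (A := A) J C).restrictScalars A))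

include hkr in
theorem eta_eq_zero_iff {z : gr I k ⊗[A] (R ⊗[A] C)} : eta I k K z = 0 ↔ theta I k J z = 0 := by
  rw [← LinearMap.mem_ker, ← LinearMap.mem_ker, ker_theta, ker_eta, hkr]

include hkr in
theorem theta_eq_of_eta_eq {z z' : gr I k ⊗[A] (R ⊗[A] C)} (h : eta I k K z = eta I k K z') :
    theta I k J z = theta I k J z' := by
  have h0 : theta I k J (z - z') = 0 :=
    (eta_eq_zero_iff J I k K hkr).1 (by rw [map_sub, h, sub_self])
  rw [← sub_add_cancel z z', map_add, h0, zero_add]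

end Compare

variable {T : Scheme.{u}} (p : T ⟶ Spec (CommRingCat.of A))

/-- The inductive step. -/
theorem mem_sup_succ [IsProper p] [Flat p] [LocallyOfFinitePresentation p]
    [GeometricallyReduced p] [GeometricallyConnected p] [T.IsSeparated] [Module.Flat A (R ⧸ J)]
    (K : ∀ V : T.Opens, Ideal (R ⊗[A] Sec p V))
    (hres : ∀ (V V' : T.Opens) (_ : IsAffineOpen V) (_ : IsAffineOpen V') (h : V' ≤ V),
      (K V).map (res (R := R) (secRes p h)) = K V')
    (hflat : ∀ V : T.Opens, IsAffineOpen V → Module.Flat A ((R ⊗[A] Sec p V) ⧸ K V))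
    {ι : Type u} (W : ι → T.Opens) (hW : ∀ o, IsAffineOpen (W o)) (hcov : ∀ t : T, ∃ o, t ∈ W o)
    (I : Ideal A) (k : ℕ)
    (hkr : ∀ (o : ι) (U : T.Opens) (_ : IsAffineOpen U) (_ : U ≤ W o) (k : ℕ),
      kr I k ((K U).restrictScalars A) = kr I k ((ext (A := A) J (Sec p U)).restrictScalars A))
    (ih : ∀ o, ext (A := A) J (Sec p (W o)) ≤ K (W o) ⊔ (I ^ k).map (algebraMap A _))
    (o₀ : ι) (φ : Sec p (W o₀) →ₐ[A] A) (hφ : (K (W o₀)).map (res (R := R) φ) ≤ ext (A := A) J A)
    (r : R) (hr : r ∈ J) :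
    ∀ o, r ⊗ₜ[A] (1 : Sec p (W o)) ∈ K (W o) ⊔ (I ^ (k + 1)).map (algebraMap A _) := by
  classical
  haveI := fun o => hflat _ (hW o)
  have hz : ∀ o, ∃ z, eta I k (K (W o)) z = cl I k (K (W o)) (r ⊗ₜ[A] 1) := fun o => by
    apply exists_eta
    rw [Ideal.smul_top_eq_map, ← Submodule.restrictScalars_sup]
    exact ih o (tmul_one_mem_ext J hr _)
  choose z hz using hz
  let ξ := fun o => theta I k J (z o)
  have hξ : ∀ i j, (secRes p (inf_le_left : W i ⊓ W j ≤ W i)).toLinearMap.lTensor _ (ξ i) =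
      (secRes p (inf_le_right : W i ⊓ W j ≤ W j)).toLinearMap.lTensor _ (ξ j) := by
    intro i j
    have hij : IsAffineOpen (W i ⊓ W j) := (hW i).inf (hW j)
    haveI := hflat _ hij
    have e1 := eta_res I k (secRes p (inf_le_left : W i ⊓ W j ≤ W i)) (K (W i)) (K (W i ⊓ W j))
      (hres _ _ (hW i) hij _).le (hz i)
    have e2 := eta_res I k (secRes p (inf_le_right : W i ⊓ W j ≤ W j)) (K (W j)) (K (W i ⊓ W j))
      (hres _ _ (hW j) hij _).le (hz j)
    rw [Algebra.TensorProduct.map_tmul, map_one] at e1 e2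
    refine (theta_res I k J _ (z i)).symm.trans
      ((theta_eq_of_eta_eq J I k _ (hkr i _ hij inf_le_left k) (e1.trans e2.symm)).trans
        (theta_res I k J _ (z j)))
  obtain ⟨m, hm⟩ := exists_const p _ W hW hcov ξ hξ
  have hm0 : m = 0 := by
    haveI : Module.Flat A A := inferInstance
    haveI := flat_quotient_ext (A := A) J A
    have e0 := eta_res I k φ (K (W o₀)) (ext (A := A) J A) hφ (hz o₀)
    rw [Algebra.TensorProduct.map_tmul, map_one] at e0
    have h0 : cl I k (ext (A := A) J A) (r ⊗ₜ[A] 1) = 0 := by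
      have : Ideal.Quotient.mk (ext (A := A) J A) (r ⊗ₜ[A] 1) = 0 :=
        Ideal.Quotient.eq_zero_iff_mem.2 (tmul_one_mem_ext J hr A)
      simp [cl, this]
    have h1 : theta I k J ((res (R := R) φ).toLinearMap.lTensor (gr I k) (z o₀)) = 0 := by
      exact (eta_eq_zero_iff J I k (ext (A := A) J A) rfl).1 (e0.trans h0)
    rw [theta_res] at h1
    have h2 : m ⊗ₜ[A] (1 : A) = 0 := by
      have := hm o₀
      simp only [ξ] at this
      rw [this, LinearMap.lTensor_tmul] at h1
      simpa using h1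
    have h3 := congrArg (TensorProduct.rid A _) h2
    simpa using h3
  intro o
  have h0 : cl I k (K (W o)) (r ⊗ₜ[A] 1) = 0 := by
    refine (hz o).symm.trans ((eta_eq_zero_iff J I k _ (hkr o _ (hW o) le_rfl k)).2 ?_)
    refine (hm o).trans ?_
    rw [hm0, zero_tmul]
  have := mem_of_cl_eq_zero I k _ h0
  rwa [Ideal.smul_top_eq_map, ← Submodule.restrictScalars_sup] at this

/-- A compatible family of ideals with flat quotients, constant modulo the nilradical and along a
section, is constant. -/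
theorem eq_ext_of_constant_mod_nilradical [IsProper p] [Flat p] [LocallyOfFinitePresentation p]
    [GeometricallyReduced p] [GeometricallyConnected p] [Module.Flat A (R ⧸ J)] (hJ : J.FG)
    (K : ∀ V : T.Opens, Ideal (R ⊗[A] Sec p V))
    (hres : ∀ (V V' : T.Opens) (_ : IsAffineOpen V) (_ : IsAffineOpen V') (h : V' ≤ V),
      (K V).map (res (R := R) (secRes p h)) = K V')
    (hflat : ∀ V : T.Opens, IsAffineOpen V → Module.Flat A ((R ⊗[A] Sec p V) ⧸ K V))
    (hfg : ∀ V : T.Opens, IsAffineOpen V → (K V).FG)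
    (hnil : ∀ V : T.Opens, IsAffineOpen V →
      K V ⊔ (nilradical A).map (algebraMap A (R ⊗[A] Sec p V)) =
        ext (A := A) J (Sec p V) ⊔ (nilradical A).map (algebraMap A (R ⊗[A] Sec p V)))
    (V₀ : T.Opens) (hV₀ : IsAffineOpen V₀) (φ : Sec p V₀ →ₐ[A] A)
    (hφ : (K V₀).map (res (R := R) φ) ≤ ext (A := A) J A) (V : T.Opens) (hV : IsAffineOpen V) :
    K V = ext (A := A) J (Sec p V) := by
  classical
  haveI : T.IsSeparated := Scheme.IsSeparated.mk (by
    have : IsSeparated (p ≫ terminal.from _) := inferInstance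
    rwa [terminal.comp_from p] at this)
  haveI : CompactSpace T := QuasiCompact.compactSpace_of_compactSpace p
  let 𝒰 := T.affineCover.finiteSubcover
  have haff : ∀ k, IsAffine (𝒰.X k) := fun k ↦ inferInstanceAs (IsAffine (T.affineCover.X _))
  let ι : Type u := Option (Option 𝒰.I₀)
  let W : ι → T.Opens := fun o => o.elim V fun o' => o'.elim V₀ fun i => (𝒰.f i).opensRange
  have hW : ∀ o, IsAffineOpen (W o)
    | none => hV
    | some none => hV₀
    | some (some i) => isAffineOpen_opensRange _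
  have hcov : ∀ t : T, ∃ o, t ∈ W o := fun t =>
    ⟨some (some (Scheme.Cover.idx 𝒰 t)), Scheme.Cover.covers 𝒰 t⟩
  have hfgJ : ∀ C : Type u, ∀ [CommRing C] [Algebra A C], (ext (A := A) J C).FG := fun C _ _ => hJ.map _
  -- a finitely generated ideal of nilpotents over which everything is constant
  obtain ⟨I, hIfg, hInil, hI⟩ : ∃ I : Ideal A, I.FG ∧ I ≤ nilradical A ∧ ∀ o,
      K (W o) ≤ ext (A := A) J _ ⊔ I.map (algebraMap A _) ∧ ext (A := A) J _ ≤ K (W o) ⊔ I.map (algebraMap A _) := by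
    choose I₁ a1 a2 a3 using fun o => exists_fg_le_of_fg (ext (A := A) J (Sec p (W o))) (K (W o)) (nilradical A)
      (hfg _ (hW o)) ((hnil _ (hW o)) ▸ le_sup_left)
    choose I₂ b1 b2 b3 using fun o => exists_fg_le_of_fg (K (W o)) (ext (A := A) J (Sec p (W o))) (nilradical A)
      (hfgJ _) ((hnil _ (hW o)).symm ▸ le_sup_left)
    refine ⟨(⨆ o, I₁ o) ⊔ (⨆ o, I₂ o), (Submodule.fg_iSup _ a1).sup (Submodule.fg_iSup _ b1),
      sup_le (iSup_le a2) (iSup_le b2), fun o => ⟨(a3 o).trans ?_, (b3 o).trans ?_⟩⟩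
    · exact sup_le_sup_left (Ideal.map_mono ((le_iSup I₁ o).trans le_sup_left)) _
    · exact sup_le_sup_left (Ideal.map_mono ((le_iSup I₂ o).trans le_sup_right)) _
  have hnilI : IsNilpotent I := (Ideal.FG.isNilpotent_iff_le_nilradical hIfg).2 hInil
  have hext : ∀ {C C' : Type u} [CommRing C] [Algebra A C] [CommRing C'] [Algebra A C'] (ψ : C →ₐ[A] C'),
      (ext (A := A) J C).map (res (R := R) ψ) = ext (A := A) J C' := by
    intro C C' _ _ _ _ ψ
    show Ideal.map (res (R := R) ψ).toRingHom (Ideal.map _ J) = _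
    rw [Ideal.map_map]
    congr 1
    exact RingHom.ext fun r => by simp
  have hmapI : ∀ {P P' : Type u} [CommRing P] [Algebra A P] [CommRing P'] [Algebra A P'] (g : P →ₐ[A] P'),
      Ideal.map g (I.map (algebraMap A P)) = I.map (algebraMap A P') := by
    intro P P' _ _ _ _ g
    show Ideal.map g.toRingHom (I.map (algebraMap A P)) = _
    rw [Ideal.map_map]
    exact congrArg (fun f : A →+* P' => I.map f) g.comp_algebraMap
  -- the ideal is constant modulo `I` on the overlaps
  have hkr : ∀ (o : ι) (U : T.Opens) (_ : IsAffineOpen U) (_ : U ≤ W o) (k : ℕ),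
      kr I k ((K U).restrictScalars A) = kr I k ((ext (A := A) J (Sec p U)).restrictScalars A) := by
    intro o U hU hle k
    apply le_antisymm <;> apply kr_le <;> rw [restrictScalars_le_iff]
    · have h := Ideal.map_mono (f := res (R := R) (secRes p hle)) (hI o).1
      rwa [Ideal.map_sup, hres _ _ (hW o) hU hle, hext, hmapI] at h
    · have h := Ideal.map_mono (f := res (R := R) (secRes p hle)) (hI o).2
      rwa [Ideal.map_sup, hres _ _ (hW o) hU hle, hext, hmapI] at h
  have step : ∀ k : ℕ, ∀ o, ext (A := A) J (Sec p (W o)) ≤ K (W o) ⊔ (I ^ k).map (algebraMap A _) := by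
    intro k
    induction k with
    | zero => intro o; rw [pow_zero, Ideal.one_eq_top, Ideal.map_top, sup_top_eq]; exact le_top
    | succ k ih =>
      intro o
      exact Ideal.map_le_iff_le_comap.2 fun r hr =>
        mem_sup_succ J p K hres hflat W hW hcov I k hkr ih (some none) φ hφ r hr o
  haveI := hflat _ hV
  have hle : ext (A := A) J (Sec p V) ≤ K V := by
    obtain ⟨n, hn⟩ := hnilI
    have h := step n none
    rw [hn, Ideal.zero_eq_bot, Ideal.map_bot, sup_bot_eq] at h
    exact h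
  exact le_antisymm (le_of_le_sup I (K V) (ext (A := A) J (Sec p V)) hnilI (hI none).1 hle) hle

end Groth.Misc6.InfDescent
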