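import Groth.Agent.Misc6.InfDescent.Chart
import Groth.Agent.GrpschAbsch.FibreFlat
import Groth.Agent.AlgSp2.FlatFibreScheme
import Mathlib.AlgebraicGeometry.Morphisms.Smooth
import Mathlib.AlgebraicGeometry.Geometrically.Connected

/-!
# Stability of a closed subscheme constant modulo the nilradical
-/

set_option autoImplicit false

universe u

open CategoryTheory CategoryTheory.Limits AlgebraicGeometry
open Groth.BlowUpBasics

namespace Groth.Misc6.InfDescent

/-- The preimage of a closed subscheme is the fibre product. -/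
theorem isPullback_comap {X Y : Scheme.{u}} (f : X ⟶ Y) (I : Y.IdealSheafData) :
    IsPullback ((I.comapIso f).hom ≫ pullback.snd f I.subschemeι) (I.comap f).subschemeι I.subschemeι f := by
  have h : IsPullback (I.comapIso f).hom (I.comap f).subschemeι (pullback.fst f I.subschemeι) (𝟙 X) :=
    IsPullback.of_horiz_isIso ⟨by simp⟩
  simpa using h.paste_horiz (IsPullback.of_hasPullback f I.subschemeι).flip

/-- A property stable under base change passes to preimages. -/
theorem comap_prop (P : MorphismProperty Scheme.{u}) [P.IsStableUnderBaseChange] {X Y X' Y' : Scheme.{u}}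
    {f : X' ⟶ X} {a : X ⟶ Y} {a' : X' ⟶ Y'} {b : Y' ⟶ Y} (sq : IsPullback f a' a b) (I : X.IdealSheafData)
    (h : P (I.subschemeι ≫ a)) : P ((I.comap f).subschemeι ≫ a') :=
  MorphismProperty.of_isPullback ((isPullback_comap f I).paste_vert sq) h

variable {S X G : Scheme.{u}} (p : X ⟶ S) [LocallyOfFiniteType p]
  (g : G ⟶ S) [IsProper g] [Smooth g] [GeometricallyConnected g]
  (W : (pullback p g).IdealSheafData)
  [Flat (W.subschemeι ≫ pullback.snd p g)] [LocallyOfFinitePresentation (W.subschemeι ≫ pullback.snd p g)]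

/-- A closed subscheme of `X ×_S G`, flat over `G`, whose pull-backs by maps into the reduction of `S` depend
only on the `X`-coordinate, is stable. -/
theorem stable
    (hred : ∀ {Z : Scheme.{u}} (z₁ z₂ : Z ⟶ pullback p g),
      z₁ ≫ pullback.fst p g = z₂ ≫ pullback.fst p g →
      (∃ w : Z ⟶ S.nilradical.subscheme, z₁ ≫ pullback.fst p g ≫ p = w ≫ S.nilradical.subschemeι) →
      W.comap z₁ = W.comap z₂) :
    W.comap (pullback.fst (pullback.fst p g) (pullback.fst p g)) =
      W.comap (pullback.snd (pullback.fst p g) (pullback.fst p g)) := by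
  classical
  let π := pullback.fst p g
  let sG := pullback.snd p g
  let Q := pullback π π
  haveI : LocallyOfFiniteType sG := MorphismProperty.pullback_snd _ _ inferInstance
  have hXG : IsPullback sG π g p := (IsPullback.of_hasPullback p g).flip
  have hQ1 : IsPullback (pullback.fst π π) (pullback.snd π π) π π := IsPullback.of_hasPullback π π
  have hQ : IsPullback (pullback.fst π π ≫ sG) (pullback.snd π π) g (π ≫ p) := hQ1.paste_horiz hXG
  have hQ' : IsPullback (pullback.snd π π ≫ sG) (pullback.fst π π) g (π ≫ p) := hQ1.flip.paste_horiz hXG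
  let ω : Q ⟶ pullback g g := pullback.lift (pullback.fst π π ≫ sG) (pullback.snd π π ≫ sG) (by
    rw [Category.assoc, Category.assoc, show sG ≫ g = π ≫ p from pullback.condition.symm,
      pullback.condition_assoc])
  have hω : IsPullback ω (pullback.fst π π) (pullback.fst g g) sG := by
    refine IsPullback.of_right ?_ (pullback.lift_fst ..) (IsPullback.of_hasPullback g g).flip
    rw [pullback.lift_snd, show sG ≫ g = π ≫ p from pullback.condition.symm]
    exact hQ'
  let W' := W.comap (pullback.fst π π)
  have hW'flat : Flat (W'.subschemeι ≫ ω) := comap_prop @Flat hω.flip W inferInstance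
  have hW'lfp : LocallyOfFinitePresentation (W'.subschemeι ≫ ω) :=
    comap_prop @LocallyOfFinitePresentation hω.flip W inferInstance
  refine eq_of_comap_cover fun q => ?_
  let b := pullback.snd π π q
  -- a small affine neighbourhood of the coordinate in `G`
  let γ := sG b
  obtain ⟨U₁, hU₁, hγ, -⟩ := exists_isAffineOpen_mem_and_subset (x := γ) (U := ⊤) trivial
  let Δ : G ⟶ pullback g g := pullback.lift (𝟙 G) (𝟙 G) rfl
  have hΔ : Δ γ ∈ pullback.snd g g ⁻¹ᵁ U₁ := by
    show pullback.snd g g (Δ γ) ∈ U₁
    rw [← Scheme.Hom.comp_apply, pullback.lift_snd]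
    exact hγ
  obtain ⟨V, hV, hΔV, hVU₁⟩ := exists_isAffineOpen_mem_and_subset (x := Δ γ)
    (U := pullback.snd g g ⁻¹ᵁ U₁) hΔ
  obtain ⟨f, hfle, hfγ⟩ := hU₁.exists_basicOpen_le (V := Δ ⁻¹ᵁ V) ⟨γ, hΔV⟩ hγ
  let U := G.basicOpen f
  have hU : IsAffineOpen U := hU₁.basicOpen f
  let A := Γ(G, U)
  let ui : Spec A ⟶ G := hU.fromSpec
  have hui : Set.range ui = U := hU.range_fromSpec
  -- the parameter space
  let cu := ui ≫ g
  let T := pullback g cu
  let pT : T ⟶ Spec (CommRingCat.of A) := pullback.snd g cu
  let tGG : T ⟶ pullback g g := pullback.lift (pullback.fst g cu) (pullback.snd g cu ≫ ui)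
    (by rw [Category.assoc, pullback.condition])
  have htGG : IsPullback tGG (pullback.snd g cu) (pullback.snd g g) ui := by
    refine IsPullback.of_right ?_ (pullback.lift_snd ..) (IsPullback.of_hasPullback g g)
    rw [pullback.lift_fst]
    exact IsPullback.of_hasPullback g cu
  haveI : IsOpenImmersion tGG := MorphismProperty.of_isPullback htGG.flip inferInstance
  haveI : IsProper pT := MorphismProperty.pullback_snd _ _ ‹_›
  haveI : Flat pT := MorphismProperty.pullback_snd _ _ inferInstance
  haveI : LocallyOfFinitePresentation pT := MorphismProperty.pullback_snd _ _ inferInstance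
  haveI := Groth.GrpschAbsch.FibreFlat.geometricallyReduced_of_smooth g
  haveI : GeometricallyReduced pT := inferInstanceAs (GeometricallyReduced (pullback.snd g cu))
  haveI : GeometricallyConnected pT := inferInstanceAs (GeometricallyConnected (pullback.snd g cu))
  let σ : Spec (CommRingCat.of A) ⟶ T := pullback.lift ui (𝟙 _) (Category.id_comp _).symm
  have hσp : σ ≫ pT = 𝟙 _ := pullback.lift_snd ..
  have hσΔ : σ ≫ tGG = ui ≫ Δ := by
    apply pullback.hom_ext
    · rw [Category.assoc, Category.assoc, pullback.lift_fst, pullback.lift_fst,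
        show Δ ≫ pullback.fst g g = 𝟙 G from pullback.lift_fst .., Category.comp_id]
    · rw [Category.assoc, Category.assoc, pullback.lift_snd,
        show Δ ≫ pullback.snd g g = 𝟙 G from pullback.lift_snd .., Category.comp_id, ← Category.assoc,
        show σ ≫ pullback.snd g cu = 𝟙 _ from hσp, Category.id_comp]
  have hrangeT : ∀ v : ↥(pullback g g), pullback.snd g g v ∈ U → v ∈ Set.range tGG := by
    intro v hv
    rw [← SetLike.mem_coe, ← hui] at hv
    obtain ⟨w, hw⟩ := hv
    obtain ⟨t, ht, -⟩ := Scheme.exists_preimage_of_isPullback htGG v w hw.symm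
    exact ⟨t, ht⟩
  let V' := V ⊓ pullback.snd g g ⁻¹ᵁ U
  have hV' : IsAffineOpen V' := by
    have h := hV.basicOpen ((pullback.snd g g).appLE U₁ V hVU₁ f)
    rwa [Scheme.basicOpen_appLE] at h
  let V₀ := tGG ⁻¹ᵁ V'
  have hV₀ : IsAffineOpen V₀ := hV'.preimage_of_isOpenImmersion tGG fun v hv => hrangeT v hv.2
  have hσV : Set.range σ ⊆ (V₀ : Set T) := by
    rintro _ ⟨z, rfl⟩
    have hz : ui z ∈ U := hui.le ⟨z, rfl⟩
    show tGG (σ z) ∈ V'
    rw [← Scheme.Hom.comp_apply, hσΔ, Scheme.Hom.comp_apply]
    refine ⟨hfle hz, ?_⟩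
    show pullback.snd g g (Δ (ui z)) ∈ U
    rw [← Scheme.Hom.comp_apply, pullback.lift_snd]
    exact hz
  -- the affine piece of `X ×_S G`
  obtain ⟨Y, hY, hbY, hYU⟩ := exists_isAffineOpen_mem_and_subset (x := b) (U := sG ⁻¹ᵁ U) hfγ
  let R := Γ(pullback p g, Y)
  let ψ : A ⟶ R := sG.appLE U Y hYU
  letI : Algebra A R := ψ.hom.toAlgebra
  let j : Spec (CommRingCat.of R) ⟶ pullback p g := hY.fromSpec
  haveI : IsOpenImmersion j := inferInstanceAs (IsOpenImmersion hY.fromSpec)
  let e := Spec.map (CommRingCat.ofHom (algebraMap A R))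
  have hj : j ≫ sG = e ≫ ui := (IsAffineOpen.SpecMap_appLE_fromSpec sG hU hY hYU).symm
  haveI : LocallyOfFiniteType e := by
    have : LocallyOfFiniteType (e ≫ ui) := hj ▸ inferInstance
    exact locallyOfFiniteType_of_comp e ui
  obtain ⟨J, hJ⟩ := sheafOf_surjective (A := R) (W.comap j)
  obtain ⟨hJflat, hJfg⟩ := chart_props (A := A) (P := R) ui j sG hj W hJ.symm
  -- the chart of the self-product
  let a₂ : bcE pT R ⟶ pullback p g := pullback.snd pT e ≫ j
  let a₁ : bcE pT R ⟶ pullback p g :=
    pullback.lift (a₂ ≫ π) (pullback.fst pT e ≫ pullback.fst g cu) (by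
      rw [Category.assoc, Category.assoc, Category.assoc, show π ≫ p = sG ≫ g from pullback.condition,
        reassoc_of% hj, show pullback.fst g cu ≫ g = pT ≫ ui ≫ g from pullback.condition]
      exact (pullback.condition_assoc (f := pT) (g := e) (ui ≫ g)).symm)
  let E : bcE pT R ⟶ Q := pullback.lift a₁ a₂ (pullback.lift_fst ..)
  have hE : IsPullback E (pullback.snd pT e) (pullback.snd π π) j := by
    refine IsPullback.of_right ?_ (pullback.lift_snd ..) hQ
    have hT : IsPullback (pullback.fst pT e ≫ pullback.fst g cu) (pullback.snd pT e) g (e ≫ cu) :=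
      (IsPullback.of_hasPullback pT e).paste_horiz (IsPullback.of_hasPullback g cu)
    have h1 : E ≫ pullback.fst π π ≫ sG = pullback.fst pT e ≫ pullback.fst g cu := by
      rw [← Category.assoc, pullback.lift_fst]
      exact pullback.lift_snd ..
    have h2 : j ≫ π ≫ p = e ≫ cu := by
      rw [show π ≫ p = sG ≫ g from pullback.condition, reassoc_of% hj]
    rw [h1, h2]
    exact hT
  haveI : IsOpenImmersion E := MorphismProperty.of_isPullback hE.flip inferInstance
  refine ⟨_, E, inferInstance, ?_, ?_⟩
  · obtain ⟨w, hw⟩ : b ∈ Set.range j := by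
      show b ∈ Set.range hY.fromSpec
      rw [hY.range_fromSpec]; exact hbY
    obtain ⟨t, ht, -⟩ := Scheme.exists_preimage_of_isPullback hE q w hw.symm
    exact ⟨t, ht⟩
  have hE1 : E ≫ pullback.fst π π = a₁ := pullback.lift_fst ..
  have hE2 : E ≫ pullback.snd π π = a₂ := pullback.lift_snd ..
  rw [← Scheme.IdealSheafData.comap_comp, ← Scheme.IdealSheafData.comap_comp, hE1, hE2]
  have hEω : E ≫ ω = pullback.fst pT e ≫ tGG := by
    apply pullback.hom_ext
    · rw [Category.assoc, pullback.lift_fst, reassoc_of% hE1, Category.assoc, pullback.lift_fst]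
      exact pullback.lift_snd ..
    · rw [Category.assoc, pullback.lift_snd, reassoc_of% hE2, Category.assoc, Category.assoc,
        show tGG ≫ pullback.snd g g = pT ≫ ui from pullback.lift_snd ..]
      show pullback.snd pT e ≫ j ≫ sG = pullback.fst pT e ≫ pT ≫ ui
      rw [hj]
      exact (pullback.condition_assoc (f := pT) (g := e) ui).symm
  have hW1 : ∀ (P : MorphismProperty Scheme.{u}) [P.IsStableUnderBaseChange] [P.IsStableUnderComposition]
      [IsZariskiLocalAtSource P],
      P (W'.subschemeι ≫ ω) → P ((W.comap a₁).subschemeι ≫ pullback.fst pT e) := by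
    intro P _ _ _ h
    have hc : W.comap a₁ = W'.comap E := by rw [← Scheme.IdealSheafData.comap_comp, hE1]
    rw [hc]
    have hsq := isPullback_comap E W'
    haveI : IsOpenImmersion ((W'.comapIso E).hom ≫ pullback.snd E W'.subschemeι) :=
      MorphismProperty.of_isPullback hsq.flip inferInstance
    have h1 : P (((W'.comap E).subschemeι ≫ pullback.fst pT e) ≫ tGG) := by
      rw [Category.assoc, ← hEω, ← Category.assoc, ← hsq.w, Category.assoc]
      exact IsZariskiLocalAtSource.comp h _
    exact MorphismProperty.of_isPullback (IsPullback.of_horiz_isIso_mono ⟨by simp⟩ :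
      IsPullback (𝟙 _) ((W'.comap E).subschemeι ≫ pullback.fst pT e)
        (((W'.comap E).subschemeι ≫ pullback.fst pT e) ≫ tGG) tGG) h1
  haveI := hW1 @Flat hW'flat
  haveI := hW1 @LocallyOfFinitePresentation hW'lfp
  have ha₂ : W.comap a₂ = (sheafOf J).comap (pullback.snd pT e) := by
    rw [Scheme.IdealSheafData.comap_comp, hJ]
  rw [ha₂]
  refine eq_comap_snd pT J hJfg (W.comap a₁) ?_ σ hσp V₀ hV₀ hσV ?_
  · intro Z z w hzw
    rw [← ha₂, ← Scheme.IdealSheafData.comap_comp, ← Scheme.IdealSheafData.comap_comp]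
    refine hred _ _ ?_ ?_
    · rw [Category.assoc, Category.assoc]
      congr 1
      exact pullback.lift_fst ..
    · haveI : IsReduced (Spec (CommRingCat.of (A ⧸ nilradical A))) :=
        haveI : _root_.IsReduced (A ⧸ nilradical A) :=
          (Ideal.isRadical_iff_quotient_reduced _).1 (Ideal.radical_isRadical ⊥)
        inferInstance
      let c : Spec (CommRingCat.of (A ⧸ nilradical A)) ⟶ S :=
        Spec.map (CommRingCat.ofHom (Ideal.Quotient.mk (nilradical A))) ≫ ui ≫ g
      obtain ⟨c₀, hc₀⟩ : ∃ c₀, c₀ ≫ S.nilradical.subschemeι = c := by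
        refine ⟨IsClosedImmersion.lift S.nilradical.subschemeι c ?_, IsClosedImmersion.lift_fac _ _ _⟩
        rw [Scheme.IdealSheafData.ker_subschemeι]
        refine Scheme.IdealSheafData.le_ofIdeals_iff.2 fun V a ha => ?_
        exact IsNilpotent.eq_zero (IsNilpotent.map (show IsNilpotent a from ha) _)
      refine ⟨w ≫ c₀, ?_⟩
      rw [Category.assoc, Category.assoc, hc₀, show a₁ ≫ π ≫ p = pullback.fst pT e ≫ pT ≫ ui ≫ g by
        rw [show π ≫ p = sG ≫ g from pullback.condition]
        show pullback.lift _ _ _ ≫ pullback.snd p g ≫ g = _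
        rw [pullback.lift_snd_assoc, Category.assoc, pullback.condition]]
      rw [reassoc_of% hzw]
  · intro z hz1 hz2
    rw [← Scheme.IdealSheafData.comap_comp, hJ]
    congr 1
    apply pullback.hom_ext
    · rw [Category.assoc, pullback.lift_fst, Category.assoc]
      show z ≫ pullback.snd pT e ≫ j ≫ π = j ≫ π
      rw [reassoc_of% hz2]
    · rw [Category.assoc, pullback.lift_snd, reassoc_of% hz1, show σ ≫ pullback.fst g cu = ui from
        pullback.lift_fst ..]
      exact hj.symm

end Groth.Misc6.InfDescent
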